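/-
Discriminants of subalgebras of a finite free algebra over `k⟦t⟧`.
-/
import Mathlib

set_option autoImplicit false
open PowerSeries Module

namespace Groth.Agent.Crimp84

universe u v
variable {k : Type u} [Field k]

theorem ord_of_associated {x : k⟦X⟧} {n : ℕ} (h : Associated x (X ^ n)) : Ring.ord k⟦X⟧ x = n := by
  rw [Ring.ord, Ideal.span_singleton_eq_span_singleton.2 h]
  change Ring.ord k⟦X⟧ (X ^ n) = n
  rw [Ring.ord_pow (mem_nonZeroDivisors_of_ne_zero X_ne_zero), Ring.ord_of_irreducible X_prime.irreducible]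
  simp

theorem exists_associated_X_pow {x : k⟦X⟧} (hx : x ≠ 0) : ∃ n : ℕ, Associated x (X ^ n) :=
  IsDiscreteValuationRing.associated_pow_irreducible hx X_prime.irreducible

theorem eq_of_associated {x : k⟦X⟧} {p q : ℕ} (hp : Associated x (X ^ p)) (hq : Associated x (X ^ q)) :
    p = q := by
  have h := (hp.symm.trans hq)
  exact le_antisymm ((pow_dvd_pow_iff X_ne_zero X_prime.not_isUnit).1 h.dvd)
    ((pow_dvd_pow_iff X_ne_zero X_prime.not_isUnit).1 h.symm.dvd)

variable {d : ℕ} {M : Type v} [AddCommGroup M] [Module k⟦X⟧ M]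

theorem length_quotient (bt : Basis (Fin d) k⟦X⟧ M) (N : Submodule k⟦X⟧ M)
    (bN : Basis (Fin d) k⟦X⟧ N) :
    bt.det (fun i => (bN i : M)) ≠ 0 ∧
    Module.length k⟦X⟧ (M ⧸ N) = Ring.ord k⟦X⟧ (bt.det fun i => (bN i : M)) ∧
    ∀ q : M ⧸ N, bt.det (fun i => (bN i : M)) • q = 0 := by
  classical
  have hr : finrank k⟦X⟧ N = finrank k⟦X⟧ M := by
    rw [finrank_eq_card_basis bN, finrank_eq_card_basis bt]
  set a := Submodule.smithNormalFormCoeffs bt hr
  set b' := Submodule.smithNormalFormTopBasis bt hr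
  set ab := Submodule.smithNormalFormBotBasis bt hr
  have ha : ∀ i, a i ≠ 0 := Submodule.smithNormalFormCoeffs_ne_zero bt hr
  set D := bt.det fun i => (bN i : M)
  have h1 : bt.det (fun i => (ab i : M)) = (∏ i, a i) * bt.det b' := by
    rw [funext (Submodule.smithNormalFormBotBasis_def bt hr)]
    exact (bt.det.toMultilinearMap.map_smul_univ a b').trans (smul_eq_mul _ _)
  have h2 : bt.det (fun i => (ab i : M)) = D * bN.det ab := by
    have h := congrArg (fun φ : N [⋀^Fin d]→ₗ[k⟦X⟧] k⟦X⟧ => φ (⇑ab))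
      ((bt.det.compLinearMap N.subtype).eq_smul_basis_det bN)
    simpa [D, Function.comp_def] using h
  have hassoc : Associated (∏ i, a i) D := by
    obtain ⟨u, hu⟩ := bt.isUnit_det b'
    obtain ⟨v, hv⟩ := bN.isUnit_det ab
    refine ⟨u * v⁻¹, ?_⟩
    rw [Units.val_mul, ← mul_assoc, hu, ← h1, h2, ← hv, mul_assoc, Units.mul_inv, mul_one]
  refine ⟨fun h => Finset.prod_ne_zero_iff.2 (fun i _ => ha i) (associated_zero_iff_eq_zero _ |>.1 (h ▸ hassoc)), ?_, fun q => ?_⟩
  · have hprod : ∀ s : Finset (Fin d), Ring.ord k⟦X⟧ (∏ i ∈ s, a i) = ∑ i ∈ s, Ring.ord k⟦X⟧ (a i) := by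
      intro s
      induction s using Finset.induction with
      | empty =>
        simpa using ord_of_associated (x := (1 : k⟦X⟧)) (n := 0) (by rw [pow_zero])
      | insert j s hj ih =>
        rw [Finset.prod_insert hj, Finset.sum_insert hj, ← ih, Ring.ord_mul]
        exact mem_nonZeroDivisors_of_ne_zero (Finset.prod_ne_zero_iff.2 fun i _ => ha i)
    have hD : Ring.ord k⟦X⟧ D = Ring.ord k⟦X⟧ (∏ i, a i) :=
      congrArg (fun I : Ideal k⟦X⟧ => Module.length k⟦X⟧ (k⟦X⟧ ⧸ I))
        (Ideal.span_singleton_eq_span_singleton.2 hassoc.symm)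
    rw [(N.quotientEquivPiSpan bt hr).length_eq, Module.length_pi_of_fintype, hD, hprod]
    rfl
  · apply (N.quotientEquivPiSpan bt hr).injective
    rw [map_smul, map_zero]
    funext i
    obtain ⟨r, hr'⟩ := Ideal.Quotient.mk_surjective ((N.quotientEquivPiSpan bt hr) q i)
    rw [Pi.smul_apply, Pi.zero_apply, ← hr', ← Ideal.Quotient.mk_eq_mk, ← Submodule.Quotient.mk_smul,
      Submodule.Quotient.mk_eq_zero, smul_eq_mul]
    exact Ideal.mul_mem_right _ _ (Ideal.mem_span_singleton.2
      ((Finset.dvd_prod_of_mem _ (Finset.mem_univ i)).trans hassoc.dvd))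

section Alg

variable {R : Type u} [CommRing R] [IsDomain R] {ι : Type} [Fintype ι] [DecidableEq ι]
  {St : Type v} [CommRing St] [Algebra R St]

theorem trace_subalgebra (bt : Basis ι R St) (S : Subalgebra R St) (bS : Basis ι R S)
    (hD : bt.det (fun i => (bS i : St)) ≠ 0) (x : S) :
    Algebra.trace R S x = Algebra.trace R St (x : St) := by
  set P := LinearMap.toMatrix bS bt S.val.toLinearMap
  have hdet : P.det ≠ 0 := by
    rw [show P = bt.toMatrix fun i => (bS i : St) by
      ext i j; simp [P, LinearMap.toMatrix_apply, Basis.toMatrix_apply]]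
    rwa [← Basis.det_apply]
  have hcomm : P * LinearMap.toMatrix bS bS (LinearMap.mulLeft R x) =
      LinearMap.toMatrix bt bt (LinearMap.mulLeft R (x : St)) * P := by
    rw [← LinearMap.toMatrix_comp, ← LinearMap.toMatrix_comp]
    congr 1
  rw [Algebra.trace_apply, Algebra.trace_apply, LinearMap.trace_eq_matrix_trace R bS,
    LinearMap.trace_eq_matrix_trace R bt]
  refine mul_left_cancel₀ hdet ?_
  set A := LinearMap.toMatrix bS bS (LinearMap.mulLeft R x)
  set B := LinearMap.toMatrix bt bt (LinearMap.mulLeft R (x : St))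
  calc P.det * A.trace = ((P.adjugate * P) * A).trace := by
        rw [Matrix.adjugate_mul, Matrix.smul_mul, one_mul, Matrix.trace_smul, smul_eq_mul]
    _ = (B * (P * P.adjugate)).trace := by
        rw [Matrix.mul_assoc, hcomm, Matrix.trace_mul_comm, Matrix.mul_assoc]
    _ = P.det * B.trace := by
        rw [Matrix.mul_adjugate, Matrix.mul_smul, mul_one, Matrix.trace_smul, smul_eq_mul]

theorem discr_subalgebra (bt : Basis ι R St) (S : Subalgebra R St) (bS : Basis ι R S)
    (hD : bt.det (fun i => (bS i : St)) ≠ 0) :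
    Algebra.discr R ⇑bS = bt.det (fun i => (bS i : St)) ^ 2 * Algebra.discr R ⇑bt := by
  have h1 : (fun i => (bS i : St)) =
      Matrix.vecMul ⇑bt ((bt.toMatrix fun i => (bS i : St)).map (algebraMap R St)) := by
    funext j
    conv_lhs => rw [← bt.sum_repr (bS j : St)]
    simp [Matrix.vecMul, dotProduct, Basis.toMatrix_apply, Algebra.smul_def, mul_comm]
  rw [Basis.det_apply, ← Algebra.discr_of_matrix_vecMul, ← h1, Algebra.discr_def, Algebra.discr_def]
  congr 1
  ext i j
  simp only [Algebra.traceMatrix_apply, Algebra.traceForm_apply, trace_subalgebra bt S bS hD,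
    MulMemClass.coe_mul]

end Alg

theorem crimp_length {d a b : ℕ} {St : Type v} [CommRing St] [Algebra k⟦X⟧ St]
    (bt : Basis (Fin d) k⟦X⟧ St) (ha : Associated (Algebra.discr k⟦X⟧ ⇑bt) (X ^ a))
    (S : Subalgebra k⟦X⟧ St) (bS : Basis (Fin d) k⟦X⟧ S)
    (hb : Associated (Algebra.discr k⟦X⟧ ⇑bS) (X ^ b)) :
    ∃ c : ℕ, Associated (bt.det fun i => (bS i : St)) (X ^ c) ∧
      Module.length k⟦X⟧ (St ⧸ Subalgebra.toSubmodule S) = c ∧ 2 * c + a = b ∧
      ∀ q : St ⧸ Subalgebra.toSubmodule S, (X : k⟦X⟧) ^ c • q = 0 := by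
  obtain ⟨hD, hlen, hann⟩ := length_quotient bt (Subalgebra.toSubmodule S) bS
  obtain ⟨c, hc⟩ := exists_associated_X_pow hD
  refine ⟨c, hc, hlen.trans (ord_of_associated hc), ?_, fun q => ?_⟩
  · refine eq_of_associated ?_ hb
    rw [discr_subalgebra bt S bS hD]
    rw [pow_add, pow_mul']
    exact (hc.pow_pow).mul_mul ha
  · obtain ⟨u, hu⟩ := hc
    rw [← hu, mul_comm, mul_smul]
    exact (congrArg _ (hann q)).trans (smul_zero _)

end Groth.Agent.Crimp84
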