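/-
Crimps of a double cover of the formal disk.
-/
import Mathlib
import Groth.Agent.Lib.H84.Crimp.Discr

set_option autoImplicit false
open PowerSeries Module

namespace Groth.Agent.Crimp84

universe u v
variable {k : Type u} [Field k] [CharZero k] {St : Type v} [CommRing St] [Algebra k⟦X⟧ St]
  (bt : Basis (Fin 2) k⟦X⟧ St) (c : k⟦X⟧)

theorem discr_double (h0 : bt 0 = 1) (h1 : bt 1 * bt 1 = algebraMap k⟦X⟧ St c) :
    Algebra.discr k⟦X⟧ ⇑bt = 4 * c := by
  haveI : Module.Free k⟦X⟧ St := Module.Free.of_basis bt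
  have hfr : finrank k⟦X⟧ St = 2 := by rw [finrank_eq_card_basis bt, Fintype.card_fin]
  have e1 : bt 1 * bt 1 = c • bt 0 := by rw [h1, h0, Algebra.algebraMap_eq_smul_one]
  have t0 : Algebra.trace k⟦X⟧ St (1 : St) = 2 := by
    rw [← (algebraMap k⟦X⟧ St).map_one, Algebra.trace_algebraMap, hfr]
    simp
  have t1 : Algebra.trace k⟦X⟧ St (bt 1) = 0 := by
    rw [Algebra.trace_eq_matrix_trace bt, Matrix.trace_fin_two]
    simp only [Algebra.leftMulMatrix_eq_repr_mul]
    rw [e1, show bt 1 * bt 0 = bt 1 by rw [h0, mul_one]]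
    simp
  have t2 : Algebra.trace k⟦X⟧ St (bt 1 * bt 1) = 2 * c := by
    rw [h1, Algebra.trace_algebraMap, hfr]
    simp
  rw [Algebra.discr_def, Matrix.det_fin_two]
  simp only [Algebra.traceMatrix_apply, Algebra.traceForm_apply, h0, one_mul, mul_one, t0, t1, t2]
  ring

theorem mem_shape_iff (h0 : bt 0 = 1) (n : ℕ) (x : St) :
    x ∈ Submodule.span k⟦X⟧ {(1 : St)} ⊔
        Ideal.span {(X : k⟦X⟧) ^ n} • (⊤ : Submodule k⟦X⟧ St) ↔
      (X : k⟦X⟧) ^ n ∣ bt.repr x 1 := by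
  constructor
  · intro hx
    obtain ⟨y, hy, z, hz, rfl⟩ := Submodule.mem_sup.1 hx
    obtain ⟨r, rfl⟩ := Submodule.mem_span_singleton.1 hy
    rw [Submodule.ideal_span_singleton_smul] at hz
    obtain ⟨w, -, rfl⟩ := (Submodule.mem_smul_pointwise_iff_exists _ _ _).1 hz
    simp [← h0]
  · rintro ⟨q, hq⟩
    rw [← bt.sum_repr x, Fin.sum_univ_two, h0, hq, mul_smul]
    exact Submodule.add_mem_sup (Submodule.mem_span_singleton.2 ⟨_, rfl⟩)
      (Submodule.smul_mem_smul (Ideal.mem_span_singleton_self _) trivial)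

theorem exists_basis_of_shape (h0 : bt 0 = 1) (n : ℕ) (S : Subalgebra k⟦X⟧ St)
    (hS : Subalgebra.toSubmodule S = Submodule.span k⟦X⟧ {(1 : St)} ⊔
        Ideal.span {(X : k⟦X⟧) ^ n} • (⊤ : Submodule k⟦X⟧ St)) :
    ∃ bS : Basis (Fin 2) k⟦X⟧ S, (fun i => (bS i : St)) = ![1, (X : k⟦X⟧) ^ n • bt 1] := by
  have hmem : ∀ x, x ∈ S ↔ (X : k⟦X⟧) ^ n ∣ bt.repr x 1 := fun x => by
    rw [← Subalgebra.mem_toSubmodule, hS, mem_shape_iff bt h0]
  have hw : (X : k⟦X⟧) ^ n • bt 1 ∈ S := (hmem _).2 ⟨1, by simp⟩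
  let v : Fin 2 → S := ![1, ⟨_, hw⟩]
  have hcomb : ∀ g : Fin 2 → k⟦X⟧, ((∑ i, g i • v i : S) : St) = g 0 • bt 0 + (g 1 * X ^ n) • bt 1 := by
    intro g
    simp [Fin.sum_univ_two, v, h0, mul_smul]
  have hli : LinearIndependent k⟦X⟧ v := by
    rw [Fintype.linearIndependent_iff]
    intro g hg
    have h := congrArg (fun x : S => bt.repr (x : St)) hg
    simp only [hcomb, ZeroMemClass.coe_zero, map_zero, map_add, map_smul, Basis.repr_self] at h
    have e0 := DFunLike.congr_fun h 0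
    have e1 := DFunLike.congr_fun h 1
    simp at e0 e1
    exact Fin.forall_fin_two.2 ⟨e0, e1⟩
  have hsp : ⊤ ≤ Submodule.span k⟦X⟧ (Set.range v) := by
    rintro ⟨x, hx⟩ -
    obtain ⟨q, hq⟩ := (hmem x).1 hx
    rw [Submodule.mem_span_range_iff_exists_fun]
    refine ⟨![bt.repr x 0, q], Subtype.ext ?_⟩
    rw [hcomb]
    show _ = x
    conv_rhs => rw [← bt.sum_repr x, Fin.sum_univ_two, hq]
    simp [mul_comm]
  refine ⟨Basis.mk hli hsp, funext fun i => ?_⟩
  rw [Basis.mk_apply]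
  fin_cases i <;> rfl

theorem det_shape (h0 : bt 0 = 1) (n : ℕ) : bt.det ![1, (X : k⟦X⟧) ^ n • bt 1] = X ^ n := by
  rw [Basis.det_apply, Matrix.det_fin_two]
  simp [Basis.toMatrix_apply, ← h0]

theorem double_crimp (h0 : bt 0 = 1) (h1 : bt 1 * bt 1 = algebraMap k⟦X⟧ St c) (a : ℕ)
    (hc : Associated c (X ^ a)) (b : ℕ) (S : Subalgebra k⟦X⟧ St) :
    (∃ bS : Basis (Fin 2) k⟦X⟧ S,
        Ideal.span {Algebra.discr k⟦X⟧ ⇑bS} = Ideal.span {(X : k⟦X⟧) ^ b}) ↔
      ∃ n : ℕ, b = 2 * n + a ∧ Subalgebra.toSubmodule S = Submodule.span k⟦X⟧ {(1 : St)} ⊔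
        Ideal.span {(X : k⟦X⟧) ^ n} • (⊤ : Submodule k⟦X⟧ St) := by
  have h4 : IsUnit (4 : k⟦X⟧) := by
    rw [isUnit_iff_constantCoeff, isUnit_iff_ne_zero, map_ofNat]
    norm_num
  have hbt : Associated (Algebra.discr k⟦X⟧ ⇑bt) (X ^ a) := by
    rw [discr_double bt c h0 h1]
    exact (associated_unit_mul_left c _ h4).trans hc
  constructor
  · rintro ⟨bS, hb⟩
    obtain ⟨D, hD, hlen, hab, -⟩ := crimp_length bt hbt S bS (Ideal.span_singleton_eq_span_singleton.1 hb)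
    let J : Ideal k⟦X⟧ := (Subalgebra.toSubmodule S).comap (LinearMap.toSpanSingleton k⟦X⟧ St (bt 1))
    have hJ : ∀ y, y ∈ J ↔ y • bt 1 ∈ S := fun y => Iff.rfl
    obtain ⟨g, hg⟩ := (IsPrincipalIdealRing.principal J).principal
    have hsub : ∀ x ∈ S, bt.repr x 1 ∈ J := fun x hx => by
      rw [hJ]
      have : bt.repr x 1 • bt 1 = x - algebraMap k⟦X⟧ St (bt.repr x 0) := by
        rw [eq_sub_iff_add_eq', Algebra.algebraMap_eq_smul_one, ← h0]
        conv_rhs => rw [← bt.sum_repr x, Fin.sum_univ_two]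
      rw [this]
      exact S.sub_mem hx (S.algebraMap_mem _)
    have hg0 : g ≠ 0 := by
      rintro rfl
      have h0' : ∀ x ∈ S, bt.repr x 1 = 0 := fun x hx => by simpa [hg] using hsub x hx
      refine (length_quotient bt (Subalgebra.toSubmodule S) bS).1 ?_
      rw [Basis.det_apply, Matrix.det_fin_two]
      simp only [Basis.toMatrix_apply]
      rw [h0' _ (bS 0).2, h0' _ (bS 1).2]
      ring
    obtain ⟨n, hn⟩ := exists_associated_X_pow hg0
    have hshape : Subalgebra.toSubmodule S = Submodule.span k⟦X⟧ {(1 : St)} ⊔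
        Ideal.span {(X : k⟦X⟧) ^ n} • (⊤ : Submodule k⟦X⟧ St) := by
      ext x
      rw [mem_shape_iff bt h0, Subalgebra.mem_toSubmodule]
      constructor
      · intro hx
        have := hsub x hx
        rw [hg, Submodule.mem_span_singleton] at this
        obtain ⟨r, hr⟩ := this
        rw [← hr]
        exact hn.symm.dvd.trans (Dvd.intro_left r rfl)
      · intro hx
        obtain ⟨r, hr⟩ := hn.dvd.trans hx
        have hJm : bt.repr x 1 ∈ J := by
          rw [hg, Submodule.mem_span_singleton]; exact ⟨r, by rw [hr, smul_eq_mul, mul_comm]⟩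
        rw [← bt.sum_repr x, Fin.sum_univ_two, h0, ← Algebra.algebraMap_eq_smul_one]
        exact S.add_mem (S.algebraMap_mem _) ((hJ _).1 hJm)
    obtain ⟨bn, hbn⟩ := exists_basis_of_shape bt h0 n S hshape
    have hlen' := (length_quotient bt (Subalgebra.toSubmodule S) bn).2.1
    rw [hlen, show bt.det (fun i => (bn i : St)) = X ^ n by
      rw [show (fun i => (bn i : St)) = _ from hbn, det_shape bt h0], ord_of_associated (Associated.refl _)] at hlen'
    have : D = n := by exact_mod_cast hlen'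
    exact ⟨n, by omega, hshape⟩
  · rintro ⟨n, rfl, hS⟩
    obtain ⟨bn, hbn⟩ := exists_basis_of_shape bt h0 n S hS
    refine ⟨bn, Ideal.span_singleton_eq_span_singleton.2 ?_⟩
    have hdet : bt.det (fun i => (bn i : St)) = X ^ n := by rw [hbn, det_shape bt h0]
    rw [discr_subalgebra bt S bn (by rw [hdet]; exact pow_ne_zero _ X_ne_zero), hdet, ← pow_mul,
      mul_comm n 2, pow_add]
    exact Associated.mul_left _ hbt

theorem double_iso (h0 : bt 0 = 1) (h1 : bt 1 * bt 1 = algebraMap k⟦X⟧ St c) (n : ℕ)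
    (S : Subalgebra k⟦X⟧ St)
    (hS : Subalgebra.toSubmodule S = Submodule.span k⟦X⟧ {(1 : St)} ⊔
        Ideal.span {(X : k⟦X⟧) ^ n} • (⊤ : Submodule k⟦X⟧ St)) :
    Nonempty (S ≃ₐ[k⟦X⟧] AdjoinRoot (Polynomial.X ^ 2 - Polynomial.C ((X : k⟦X⟧) ^ (2 * n) * c))) := by
  obtain ⟨bn, hbn⟩ := exists_basis_of_shape bt h0 n S hS
  have e0 : bn 0 = 1 := Subtype.ext (congrFun hbn 0)
  have e1 : (bn 1 : St) = (X : k⟦X⟧) ^ n • bt 1 := congrFun hbn 1
  set f := Polynomial.X ^ 2 - Polynomial.C ((X : k⟦X⟧) ^ (2 * n) * c)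
  have hmon : f.Monic := Polynomial.monic_X_pow_sub_C _ two_ne_zero
  have hsq : bn 1 * bn 1 = algebraMap k⟦X⟧ S (X ^ (2 * n) * c) := Subtype.ext (by
    rw [MulMemClass.coe_mul, e1, smul_mul_smul_comm, h1, ← pow_add, ← two_mul]
    simp [Algebra.smul_def])
  let φ : AdjoinRoot f →ₐ[k⟦X⟧] S := AdjoinRoot.liftAlgHom f (Algebra.ofId k⟦X⟧ S) (bn 1) (by
    simp [f, Algebra.ofId_apply, sq, hsq])
  have hroot : φ (AdjoinRoot.root f) = bn 1 := AdjoinRoot.liftAlgHom_root _ _ _ _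
  have hφ : ∀ x y : k⟦X⟧, φ (AdjoinRoot.of f x + AdjoinRoot.of f y * AdjoinRoot.root f) =
      x • bn 0 + y • bn 1 := by
    intro x y
    rw [← AdjoinRoot.algebraMap_eq, map_add, map_mul, AlgHom.commutes, AlgHom.commutes, hroot,
      Algebra.smul_def, Algebra.smul_def, e0, mul_one]
  refine ⟨(AlgEquiv.ofBijective φ ⟨?_, fun s => ?_⟩).symm⟩
  · rw [injective_iff_map_eq_zero]
    intro z hz
    obtain ⟨p, rfl⟩ := AdjoinRoot.mk_surjective z
    have hdeg : (p %ₘ f).natDegree ≤ 1 := by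
      have := Polynomial.natDegree_modByMonic_lt p hmon (fun h => by
        have := congrArg Polynomial.natDegree h
        rw [Polynomial.natDegree_X_pow_sub_C, Polynomial.natDegree_one] at this
        omega)
      rw [Polynomial.natDegree_X_pow_sub_C] at this
      omega
    rw [← (AdjoinRoot.mk_leftInverse hmon) (AdjoinRoot.mk f p), AdjoinRoot.modByMonicHom_mk,
      Polynomial.eq_X_add_C_of_natDegree_le_one hdeg, map_add, map_mul, AdjoinRoot.mk_C, AdjoinRoot.mk_X,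
      AdjoinRoot.mk_C, add_comm] at hz ⊢
    rw [hφ] at hz
    have := Fintype.linearIndependent_iff.1 bn.linearIndependent ![(p %ₘ f).coeff 0, (p %ₘ f).coeff 1]
      (by rw [Fin.sum_univ_two]; simpa using hz)
    have r0 := this 0
    have r1 := this 1
    simp at r0 r1
    simp [r0, r1]
  · refine ⟨AdjoinRoot.of f (bn.repr s 0) + AdjoinRoot.of f (bn.repr s 1) * AdjoinRoot.root f, ?_⟩
    rw [hφ, ← Fin.sum_univ_two (fun i => bn.repr s i • bn i), bn.sum_repr]

end Groth.Agent.Crimp84
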