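/-
Submodules of `k⟦x⟧` over `k⟦x^p⟧`.
-/
import Groth.Prelude.Def_W4c1hurwitzcptBd
import Mathlib

set_option autoImplicit false
open PowerSeries Module W4c1hurwitzcpt

namespace Groth.Agent.Crimp84

universe u
variable {k : Type u} [Field k] {p : ℕ} [NeZero p]

theorem val_smul (r : k⟦X⟧) (f : RootDisk p k) :
    RootDisk.val (r • f) = expand p (NeZero.ne p) r * RootDisk.val f := rfl

theorem val_one : RootDisk.val (1 : RootDisk p k) = 1 := map_one _

theorem order_smul (r : k⟦X⟧) (f : RootDisk p k) :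
    (RootDisk.val (r • f)).order = p • r.order + (RootDisk.val f).order := by
  rw [val_smul, order_mul, PowerSeries.order_expand]

instance finite_rootDisk : Module.Finite k⟦X⟧ (RootDisk p k) := by
  classical
  let x : Fin p → RootDisk p k := fun i => RootDisk.val.symm ((X : k⟦X⟧) ^ (i : ℕ))
  refine ⟨⟨Finset.univ.image x, eq_top_iff.2 fun f _ => ?_⟩⟩
  rw [Finset.coe_image, Finset.coe_univ, Set.image_univ, Submodule.mem_span_range_iff_exists_fun]
  refine ⟨fun i => mk fun q => coeff (p * q + i) (RootDisk.val f), RootDisk.val.injective ?_⟩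
  ext N
  simp only [map_sum, val_smul]
  have hp : 0 < p := Nat.pos_of_ne_zero (NeZero.ne p)
  rw [Finset.sum_eq_single (⟨N % p, Nat.mod_lt N hp⟩ : Fin p)]
  · rw [show RootDisk.val (x ⟨N % p, Nat.mod_lt N hp⟩) = (X : k⟦X⟧) ^ (N % p) from
      RootDisk.val.apply_symm_apply _]
    have hN := Nat.div_add_mod N p
    rw [coeff_mul_X_pow', if_pos (Nat.mod_le _ _), show N - N % p = p * (N / p) by omega,
      coeff_expand_mul, coeff_mk, hN]
  · intro i _ hi
    rw [show RootDisk.val (x i) = (X : k⟦X⟧) ^ (i : ℕ) from RootDisk.val.apply_symm_apply _,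
      coeff_mul_X_pow']
    split_ifs with hle
    · refine coeff_expand_of_not_dvd p (NeZero.ne p) _ fun hdvd => hi (Fin.ext ?_)
      obtain ⟨c, hc⟩ := hdvd
      show (i : ℕ) = N % p
      rw [show N = (i : ℕ) + p * c by omega, Nat.add_mul_mod_self_left, Nat.mod_eq_of_lt i.isLt]
    · rfl
  · simp

/-- The orders of nonzero elements of `M`, modulo `p`. -/
def resSet (M : Submodule k⟦X⟧ (RootDisk p k)) : Set ℕ :=
  {r | ∃ f ∈ M, ∃ v : ℕ, (RootDisk.val f).order = v ∧ v % p = r}

theorem exists_span_of_resSet (M : Submodule k⟦X⟧ (RootDisk p k)) :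
    ∃ (S : Finset ℕ) (g : ℕ → RootDisk p k) (v : ℕ → ℕ),
      (∀ r ∈ S, r < p ∧ g r ∈ M ∧ (RootDisk.val (g r)).order = v r ∧ v r % p = r) ∧
      M = Submodule.span k⟦X⟧ (g '' ↑S) := by
  classical
  have hp : 0 < p := Nat.pos_of_ne_zero (NeZero.ne p)
  let P : ℕ → ℕ → Prop := fun r v => (∃ f ∈ M, (RootDisk.val f).order = v) ∧ v % p = r
  let S := (Finset.range p).filter fun r => ∃ v, P r v
  have hex : ∀ r, ∃ (g : RootDisk p k) (v : ℕ), r ∈ S → g ∈ M ∧ (RootDisk.val g).order = v ∧
      v % p = r ∧ ∀ w, P r w → v ≤ w := by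
    intro r
    by_cases hr : r ∈ S
    · have h := (Finset.mem_filter.1 hr).2
      obtain ⟨⟨f, hf, hfo⟩, hmod⟩ := Nat.find_spec h
      exact ⟨f, Nat.find h, fun _ => ⟨hf, hfo, hmod, fun w hw => Nat.find_le hw⟩⟩
    · exact ⟨0, 0, fun h => absurd h hr⟩
  choose g v hgv using hex
  refine ⟨S, g, v, fun r hr => ⟨Finset.mem_range.1 (Finset.mem_filter.1 hr).1, (hgv r hr).1,
    (hgv r hr).2.1, (hgv r hr).2.2.1⟩, ?_⟩
  set N := Submodule.span k⟦X⟧ (g '' ↑S) with hN
  have hNM : N ≤ M := Submodule.span_le.2 (by rintro _ ⟨r, hr, rfl⟩; exact (hgv r hr).1)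
  refine le_antisymm (fun h hh => ?_) hNM
  -- approximation
  have happ : ∀ L : ℕ, ∃ l ∈ N, (X : k⟦X⟧) ^ L ∣ RootDisk.val (h - l) := by
    intro L
    induction L with
    | zero => exact ⟨0, N.zero_mem, by simp⟩
    | succ L ih =>
      obtain ⟨l, hl, hd⟩ := ih
      by_cases hc : coeff L (RootDisk.val (h - l)) = 0
      · refine ⟨l, hl, X_pow_dvd_iff.2 fun i hi => ?_⟩
        rcases Nat.lt_succ_iff_lt_or_eq.1 hi with hi | rfl
        · exact X_pow_dvd_iff.1 hd i hi
        · exact hc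
      · have ho : (RootDisk.val (h - l)).order = (L : ℕ) :=
          (order_eq_nat).2 ⟨hc, fun i hi => X_pow_dvd_iff.1 hd i hi⟩
        have hP : P (L % p) L := ⟨⟨h - l, M.sub_mem hh (hNM hl), ho⟩, rfl⟩
        have hS : L % p ∈ S := Finset.mem_filter.2 ⟨Finset.mem_range.2 (Nat.mod_lt _ hp), L, hP⟩
        obtain ⟨hg, hgo, hgmod, hgmin⟩ := hgv _ hS
        obtain ⟨j, hj⟩ := (Nat.modEq_iff_dvd' (hgmin L hP)).1 hgmod
        have hL : L = v (L % p) + p * j := by have := hgmin L hP; omega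
        obtain ⟨hg1, hg2⟩ := order_eq_nat.1 hgo
        set c := coeff L (RootDisk.val (h - l)) / coeff (v (L % p)) (RootDisk.val (g (L % p)))
        refine ⟨l + (C c * X ^ j) • g (L % p),
          N.add_mem hl (N.smul_mem _ (Submodule.subset_span ⟨_, hS, rfl⟩)), X_pow_dvd_iff.2 fun i hi => ?_⟩
        rw [← sub_sub, map_sub, val_smul, map_mul, map_pow, expand_C, expand_X, ← pow_mul, map_sub,
          mul_assoc, coeff_C_mul, coeff_X_pow_mul', sub_eq_zero]
        rcases Nat.lt_succ_iff_lt_or_eq.1 hi with hi | hi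
        · rw [X_pow_dvd_iff.1 hd i hi]
          split_ifs with hle
          · rw [hg2 (i - p * j) (by omega), mul_zero]
          · rw [mul_zero]
        · subst hi
          rw [if_pos (by omega), show i - p * j = v (i % p) by omega, div_mul_cancel₀ _ hg1]
  rw [← Submodule.Quotient.mk_eq_zero]
  have hmem : Submodule.Quotient.mk (p := N) h ∈
      (⨅ i : ℕ, (IsLocalRing.maximalIdeal k⟦X⟧) ^ i • (⊤ : Submodule k⟦X⟧ (RootDisk p k ⧸ N))) := by
    rw [Submodule.mem_iInf]
    intro i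
    obtain ⟨l, hl, q, hq⟩ := happ (p * i)
    have he : h = l + (X : k⟦X⟧) ^ i • RootDisk.val.symm q := by
      rw [← sub_eq_iff_eq_add']
      refine RootDisk.val.injective ?_
      rw [hq, val_smul, map_pow, expand_X, ← pow_mul, RingEquiv.apply_symm_apply]
    rw [he, Submodule.Quotient.mk_add, (Submodule.Quotient.mk_eq_zero N).2 hl, zero_add,
      Submodule.Quotient.mk_smul]
    refine Submodule.smul_mem_smul (Ideal.pow_mem_pow ?_ i) trivial
    rw [maximalIdeal_eq_span_X]
    exact Ideal.mem_span_singleton_self _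
  rw [Ideal.iInf_pow_smul_eq_bot_of_le_jacobson _ (IsLocalRing.maximalIdeal_le_jacobson _)] at hmem
  exact (Submodule.mem_bot _).1 hmem

theorem totallyRamified_basis (M : Submodule k⟦X⟧ (RootDisk 3 k)) (bM : Basis (Fin 3) k⟦X⟧ M) :
    ∃ g : Basis (Fin 3) k⟦X⟧ M, ∀ i j : Fin 3, i ≠ j →
      ¬ Nat.ModEq 3 (RootDisk.val ((g i : M) : RootDisk 3 k)).order.toNat
        (RootDisk.val ((g j : M) : RootDisk 3 k)).order.toNat := by
  classical
  obtain ⟨S, g, v, hS, hM⟩ := exists_span_of_resSet M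
  have hfr : finrank k⟦X⟧ M = 3 := by rw [finrank_eq_card_basis bM, Fintype.card_fin]
  have hle : finrank k⟦X⟧ M ≤ S.card := by
    rw [hM, ← Finset.coe_image]
    exact (finrank_span_finset_le_card _).trans Finset.card_image_le
  have hsub : S ⊆ Finset.range 3 := fun r hr => Finset.mem_range.2 (hS r hr).1
  have hSeq : S = Finset.range 3 := Finset.eq_of_subset_of_card_le hsub (by rw [Finset.card_range]; omega)
  have hmem : ∀ i : Fin 3, g i ∈ M := fun i => (hS i (hSeq ▸ Finset.mem_range.2 i.isLt)).2.1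
  let w : Fin 3 → M := fun i => ⟨g i, hmem i⟩
  have hsp : ⊤ ≤ Submodule.span k⟦X⟧ (Set.range w) := by
    rintro ⟨x, hx⟩ -
    rw [← Submodule.apply_mem_span_image_iff_mem_span (f := M.subtype) M.injective_subtype,
      ← Set.range_comp]
    refine Submodule.span_mono ?_ (show x ∈ Submodule.span k⟦X⟧ (g '' ↑S) from hM ▸ hx)
    rintro _ ⟨r, hr, rfl⟩
    exact ⟨⟨r, (hS r hr).1⟩, rfl⟩
  refine ⟨basisOfTopLeSpanOfCardEqFinrank w hsp (by rw [hfr, Fintype.card_fin]), fun i j hij => ?_⟩
  rw [coe_basisOfTopLeSpanOfCardEqFinrank]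
  obtain ⟨-, -, oi, mi⟩ := hS i (hSeq ▸ Finset.mem_range.2 i.isLt)
  obtain ⟨-, -, oj, mj⟩ := hS j (hSeq ▸ Finset.mem_range.2 j.isLt)
  simp only [w, oi, oj, ENat.toNat_coe]
  unfold Nat.ModEq
  rw [mi, mj]
  exact fun h => hij (Fin.ext h)

theorem simplyRamified_span (M : Submodule k⟦X⟧ (RootDisk 2 k × k⟦X⟧))
    (h1 : (1 : RootDisk 2 k × k⟦X⟧) ∈ M) (bM : Basis (Fin 3) k⟦X⟧ M) :
    ∃ f₁ f₂ : RootDisk 2 k,
      ¬ Nat.ModEq 2 (RootDisk.val f₁).order.toNat (RootDisk.val f₂).order.toNat ∧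
      M = Submodule.span k⟦X⟧ {(1 : RootDisk 2 k × k⟦X⟧), (f₁, 0), (f₂, 0)} := by
  classical
  let M₁ : Submodule k⟦X⟧ (RootDisk 2 k) := M.comap (LinearMap.inl _ _ _)
  obtain ⟨S, g, v, hS, hM⟩ := exists_span_of_resSet M₁
  let ι' := LinearMap.inl k⟦X⟧ (RootDisk 2 k) k⟦X⟧
  have hgen : M = Submodule.span k⟦X⟧ (insert 1 (ι' '' (g '' ↑S))) := by
    refine le_antisymm (fun x hx => ?_) (Submodule.span_le.2 ?_)
    · rw [show x = x.2 • (1 : RootDisk 2 k × k⟦X⟧) + ι' (x - x.2 • 1).1 by
        refine Prod.ext ?_ ?_ <;> simp [ι']]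
      refine Submodule.add_mem _ (Submodule.smul_mem _ _ (Submodule.subset_span (Set.mem_insert _ _))) ?_
      refine Submodule.span_mono (Set.subset_insert _ _) ?_
      rw [Submodule.span_image]
      refine Submodule.mem_map_of_mem (hM ▸ ?_)
      show ι' (x - x.2 • 1).1 ∈ M
      rw [show ι' (x - x.2 • 1).1 = x - x.2 • 1 by refine Prod.ext ?_ ?_ <;> simp [ι']]
      exact M.sub_mem hx (M.smul_mem _ h1)
    · rintro x (rfl | ⟨_, ⟨r, hr, rfl⟩, rfl⟩)
      · exact h1
      · exact (hS r hr).2.1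
  have hfr : finrank k⟦X⟧ M = 3 := by rw [finrank_eq_card_basis bM, Fintype.card_fin]
  have hle : finrank k⟦X⟧ M ≤ S.card + 1 := by
    rw [hgen, ← Set.image_comp, ← Finset.coe_image, ← Finset.coe_insert]
    refine (finrank_span_finset_le_card _).trans ((Finset.card_insert_le _ _).trans ?_)
    exact Nat.add_le_add_right Finset.card_image_le 1
  have hsub : S ⊆ Finset.range 2 := fun r hr => Finset.mem_range.2 (hS r hr).1
  have hSeq : S = Finset.range 2 := Finset.eq_of_subset_of_card_le hsub (by rw [Finset.card_range]; omega)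
  obtain ⟨-, -, o0, m0⟩ := hS 0 (hSeq ▸ Finset.mem_range.2 (by omega))
  obtain ⟨-, -, o1, m1⟩ := hS 1 (hSeq ▸ Finset.mem_range.2 (by omega))
  refine ⟨g 0, g 1, ?_, ?_⟩
  · rw [o0, o1, ENat.toNat_coe, ENat.toNat_coe]
    unfold Nat.ModEq
    omega
  · rw [hgen, hSeq, show (↑(Finset.range 2) : Set ℕ) = {0, 1} by
      ext i
      simp only [Finset.coe_range, Set.mem_Iio, Set.mem_insert_iff, Set.mem_singleton_iff]
      omega]
    simp [Set.image_insert_eq, ι']

theorem order_add_ne {a b : k⟦X⟧} {N : ℕ} (h : a.order ≠ b.order ∨ (a.order = ⊤ ∧ b.order = ⊤))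
    (ha : a.order ≠ (N : ℕ∞)) (hb : b.order ≠ (N : ℕ∞)) : (a + b).order ≠ (N : ℕ∞) := by
  rcases h with h | ⟨h, h'⟩
  · rw [order_add_of_order_ne a b h]
    rcases min_choice a.order b.order with e | e <;> rw [e] <;> assumption
  · rw [order_eq_top.1 h, zero_add, h']
    exact ENat.top_ne_coe N

theorem totallyRamified_closed_iff (m n : ℕ) (hm : ¬ 3 ∣ m) (x g : RootDisk 3 k)
    (hx : RootDisk.val x = X) (hg : (RootDisk.val g).order = 0)
    (M : Submodule k⟦X⟧ (RootDisk 3 k))
    (hM : M = Submodule.span k⟦X⟧ {1, x ^ m * g} ⊔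
      (Ideal.span {x ^ n} : Ideal (RootDisk 3 k)).restrictScalars k⟦X⟧) :
    (∀ a ∈ M, ∀ b ∈ M, a * b ∈ M) ↔ n ≤ 2 * m := by
  set u := x ^ m * g with hu
  have hou : (RootDisk.val u).order = (m : ℕ∞) := by
    rw [hu, map_mul, map_pow, hx, order_mul, order_X_pow, hg, add_zero]
  have huM : u ∈ M := hM ▸ Submodule.mem_sup_left (Submodule.subset_span (by simp))
  have h1M : (1 : RootDisk 3 k) ∈ M := hM ▸ Submodule.mem_sup_left (Submodule.subset_span (by simp))
  constructor
  · intro h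
    by_contra hlt
    have huu := h u huM u huM
    rw [hM] at huu
    obtain ⟨y, hy, z, hz, he⟩ := Submodule.mem_sup.1 huu
    obtain ⟨p', q', rfl⟩ := Submodule.mem_span_pair.1 hy
    rw [Submodule.restrictScalars_mem, Ideal.mem_span_singleton'] at hz
    obtain ⟨w, rfl⟩ := hz
    have ho : (RootDisk.val (u * u)).order = ((2 * m : ℕ) : ℕ∞) := by
      rw [map_mul, order_mul, hou]; push_cast; ring
    have e1 : (RootDisk.val (p' • (1 : RootDisk 3 k) + q' • u)).order ≠ ((2 * m : ℕ) : ℕ∞) := by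
      rw [map_add]
      have op : (RootDisk.val (p' • (1 : RootDisk 3 k))).order = 3 • p'.order := by
        rw [order_smul, val_one, order_one, add_zero]
      have oq : (RootDisk.val (q' • u)).order = 3 • q'.order + m := by rw [order_smul, hou]
      cases hp : p'.order with
      | top =>
        rw [show p' = 0 from order_eq_top.1 hp, zero_smul, map_zero, zero_add]
        cases hq : q'.order with
        | top =>
          rw [show q' = 0 from order_eq_top.1 hq, zero_smul, map_zero, order_zero]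
          exact ENat.top_ne_coe _
        | coe j =>
          rw [oq, hq]
          intro hj
          rw [nsmul_eq_mul] at hj
          have : (3 * j + m : ℕ) = 2 * m := by exact_mod_cast hj
          omega
      | coe i =>
        have op' : (RootDisk.val (p' • (1 : RootDisk 3 k))).order = ((3 * i : ℕ) : ℕ∞) := by
          rw [op, hp]; simp
        cases hq : q'.order with
        | top =>
          rw [show q' = 0 from order_eq_top.1 hq, zero_smul, map_zero, add_zero, op']
          intro hi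
          have : 3 * i = 2 * m := by exact_mod_cast hi
          omega
        | coe j =>
          have oq' : (RootDisk.val (q' • u)).order = ((3 * j + m : ℕ) : ℕ∞) := by
            rw [oq, hq]; simp
          refine order_add_ne (Or.inl ?_) ?_ ?_
          · rw [op', oq']; intro hij
            have : 3 * i = 3 * j + m := by exact_mod_cast hij
            omega
          · rw [op']; intro hij
            have : 3 * i = 2 * m := by exact_mod_cast hij
            omega
          · rw [oq']; intro hij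
            have : 3 * j + m = 2 * m := by exact_mod_cast hij
            omega
    apply e1
    obtain ⟨h1, h2⟩ := order_eq_nat.1 ho
    have hz : ∀ i ≤ 2 * m, coeff i (RootDisk.val (w * x ^ n)) = 0 := fun i hi => by
      rw [map_mul, map_pow, hx, coeff_mul_X_pow', if_neg (by omega)]
    rw [← he, map_add] at h1 h2
    refine order_eq_nat.2 ⟨?_, fun i hi => ?_⟩
    · rwa [map_add, hz _ le_rfl, add_zero] at h1
    · have := h2 i hi
      rwa [map_add, hz _ hi.le, add_zero] at this
  · intro hn a ha b hb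
    rw [hM] at ha hb
    obtain ⟨a1, ha1, a2, ha2, rfl⟩ := Submodule.mem_sup.1 ha
    obtain ⟨b1, hb1, b2, hb2, rfl⟩ := Submodule.mem_sup.1 hb
    obtain ⟨p', q', rfl⟩ := Submodule.mem_span_pair.1 ha1
    obtain ⟨p'', q'', rfl⟩ := Submodule.mem_span_pair.1 hb1
    rw [Submodule.restrictScalars_mem] at ha2 hb2
    set I := (Ideal.span {x ^ n} : Ideal (RootDisk 3 k))
    have hIM : ∀ z ∈ I, z ∈ M := fun z hz => hM ▸ Submodule.mem_sup_right (by simpa using hz)
    have huu : u * u ∈ I := Ideal.mem_span_singleton.2 (by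
      rw [hu, mul_mul_mul_comm, ← pow_add]
      exact (pow_dvd_pow x (by omega)).mul_right _)
    rw [show (p' • (1 : RootDisk 3 k) + q' • u + a2) * (p'' • (1 : RootDisk 3 k) + q'' • u + b2) =
        (p' * p'') • (1 : RootDisk 3 k) + (p' * q'' + q' * p'') • u +
          (algebraMap k⟦X⟧ _ (q' * q'') * (u * u) + (p' • (1 : RootDisk 3 k) + q' • u + a2) * b2 +
            a2 * (p'' • (1 : RootDisk 3 k) + q'' • u)) by
      simp only [Algebra.smul_def, map_mul, map_add]; ring]
    exact M.add_mem (M.add_mem (M.smul_mem _ h1M) (M.smul_mem _ huM))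
      (hIM _ (I.add_mem (I.add_mem (I.mul_mem_left _ huu) (I.mul_mem_left _ hb2)) (I.mul_mem_right _ ha2)))

theorem simplyRamified_not_closed (m n : ℕ) (hm : Odd m) (hmn : 2 * m < n) (x g : RootDisk 2 k)
    (hx : RootDisk.val x = X) (hg : (RootDisk.val g).order = 0)
    (M : Submodule k⟦X⟧ (RootDisk 2 k × k⟦X⟧))
    (hM : M = Submodule.span k⟦X⟧ {(1 : RootDisk 2 k × k⟦X⟧), (x ^ m * g, 0)} ⊔
      ((Ideal.span {x ^ n} : Ideal (RootDisk 2 k)).restrictScalars k⟦X⟧).prod ⊥) :
    ∃ a ∈ M, ∃ b ∈ M, a * b ∉ M := by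
  set u := x ^ m * g with hu
  have hou : (RootDisk.val u).order = (m : ℕ∞) := by
    rw [hu, map_mul, map_pow, hx, order_mul, order_X_pow, hg, add_zero]
  have huM : ((u, 0) : RootDisk 2 k × k⟦X⟧) ∈ M :=
    hM ▸ Submodule.mem_sup_left (Submodule.subset_span (by simp))
  refine ⟨_, huM, _, huM, fun h => ?_⟩
  rw [hM] at h
  obtain ⟨y, hy, z, hz, he⟩ := Submodule.mem_sup.1 h
  obtain ⟨p', q', rfl⟩ := Submodule.mem_span_pair.1 hy
  obtain ⟨hz1, hz2⟩ := Submodule.mem_prod.1 hz
  rw [Submodule.restrictScalars_mem, Ideal.mem_span_singleton'] at hz1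
  obtain ⟨w, hw⟩ := hz1
  rw [Submodule.mem_bot] at hz2
  have e2 := congrArg Prod.snd he
  simp [hz2] at e2
  subst e2
  have e1 := congrArg Prod.fst he
  simp [← hw] at e1
  have ho : (RootDisk.val (u * u)).order = ((2 * m : ℕ) : ℕ∞) := by
    rw [map_mul, order_mul, hou]; push_cast; ring
  obtain ⟨h1, h2⟩ := order_eq_nat.1 ho
  have hzero : ∀ i ≤ 2 * m, coeff i (RootDisk.val (w * x ^ n)) = 0 := fun i hi => by
    rw [map_mul, map_pow, hx, coeff_mul_X_pow', if_neg (by omega)]
  rw [← e1, map_add] at h1 h2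
  have hq : (RootDisk.val (q' • u)).order = ((2 * m : ℕ) : ℕ∞) := by
    refine order_eq_nat.2 ⟨?_, fun i hi => ?_⟩
    · rwa [map_add, hzero _ le_rfl, add_zero] at h1
    · have := h2 i hi
      rwa [map_add, hzero _ hi.le, add_zero] at this
  cases hj : q'.order with
  | top =>
    rw [show q' = 0 from order_eq_top.1 hj, zero_smul, map_zero, order_zero] at hq
    exact ENat.top_ne_coe _ hq
  | coe j =>
    rw [order_smul, hou, hj, nsmul_eq_mul] at hq
    have : (2 * j + m : ℕ) = 2 * m := by exact_mod_cast hq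
    obtain ⟨t, rfl⟩ := hm
    omega

end Groth.Agent.Crimp84
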