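/-
Crimps of the unramified triple cover of the formal disk.
-/
import Mathlib

set_option autoImplicit false
open PowerSeries Module

namespace Groth.Agent.Crimp84

universe u
variable {k : Type u} [Field k]

/-- `constantCoeff` applied coordinatewise. -/
noncomputable def red (f : Fin 3 → k⟦X⟧) : Fin 3 → k := fun i => constantCoeff (f i)

theorem isUnit_det_of_indep (v : Fin 3 → Fin 3 → k⟦X⟧)
    (h : ∀ c : Fin 3 → k, ∑ i, c i • red (v i) = 0 → c = 0) : IsUnit (Matrix.of v).det := by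
  rw [isUnit_iff_constantCoeff, RingHom.map_det, ← Matrix.isUnit_iff_isUnit_det,
    ← Matrix.linearIndependent_rows_iff_isUnit, Fintype.linearIndependent_iff]
  intro g hg i
  exact congrFun (h g hg) i

theorem exists_basis (v : Fin 3 → Fin 3 → k⟦X⟧)
    (h : ∀ c : Fin 3 → k, ∑ i, c i • red (v i) = 0 → c = 0) :
    ∃ b : Basis (Fin 3) k⟦X⟧ (Fin 3 → k⟦X⟧), ⇑b = v := by
  have hu := isUnit_det_of_indep v h
  have := (Basis.is_basis_iff_det (Pi.basisFun k⟦X⟧ (Fin 3)) (v := v)).2 (by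
    rw [Pi.basisFun_det_apply]; exact hu)
  exact ⟨Basis.mk this.1 this.2.ge, Basis.coe_mk this.1 _⟩

theorem mem_span_one_sup_iff {f : Fin 3 → k⟦X⟧} :
    f ∈ Submodule.span k⟦X⟧ {(1 : Fin 3 → k⟦X⟧)} ⊔
        Ideal.span {(X : k⟦X⟧)} • (⊤ : Submodule k⟦X⟧ (Fin 3 → k⟦X⟧)) ↔
      ∀ i j, red f i = red f j := by
  constructor
  · intro hf i j
    obtain ⟨y, hy, z, hz, rfl⟩ := Submodule.mem_sup.1 hf
    obtain ⟨r, rfl⟩ := Submodule.mem_span_singleton.1 hy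
    rw [Submodule.ideal_span_singleton_smul] at hz
    obtain ⟨w, -, rfl⟩ := (Submodule.mem_smul_pointwise_iff_exists _ _ _).1 hz
    simp [red]
  · intro hf
    have : ∀ i, ∃ q, f i = C (red f 0) + X * q := fun i => by
      obtain ⟨q, hq⟩ : (X : k⟦X⟧) ∣ f i - C (red f 0) := by
        rw [X_dvd_iff, map_sub, constantCoeff_C, sub_eq_zero]
        exact hf i 0
      exact ⟨q, by rw [← hq, add_sub_cancel]⟩
    choose q hq using this
    rw [show f = C (red f 0) • (1 : Fin 3 → k⟦X⟧) + (X : k⟦X⟧) • q from funext fun i => by simp [hq i]]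
    exact Submodule.add_mem_sup (Submodule.mem_span_singleton.2 ⟨_, rfl⟩)
      (Submodule.smul_mem_smul (Ideal.mem_span_singleton_self _) trivial)

/-- The shape `R·1 + R·tᵐf + tⁿ S'` in coordinates. -/
theorem mem_shape3_iff (b : Basis (Fin 3) k⟦X⟧ (Fin 3 → k⟦X⟧)) (hb : b 0 = 1) {m n : ℕ} (hmn : m ≤ n)
    (x : Fin 3 → k⟦X⟧) :
    x ∈ Submodule.span k⟦X⟧ {(1 : Fin 3 → k⟦X⟧), ((X : k⟦X⟧) ^ m) • b 1} ⊔
        Ideal.span {(X : k⟦X⟧) ^ n} • (⊤ : Submodule k⟦X⟧ (Fin 3 → k⟦X⟧)) ↔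
      (X : k⟦X⟧) ^ m ∣ b.repr x 1 ∧ (X : k⟦X⟧) ^ n ∣ b.repr x 2 := by
  constructor
  · intro hx
    obtain ⟨y, hy, z, hz, rfl⟩ := Submodule.mem_sup.1 hx
    obtain ⟨p, q, rfl⟩ := Submodule.mem_span_pair.1 hy
    rw [Submodule.ideal_span_singleton_smul] at hz
    obtain ⟨w, -, rfl⟩ := (Submodule.mem_smul_pointwise_iff_exists _ _ _).1 hz
    rw [← hb]
    simp only [map_add, map_smul, Basis.repr_self, Finsupp.add_apply, Finsupp.smul_apply, smul_eq_mul]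
    simp
    exact dvd_add (Dvd.intro_left q rfl) (Dvd.dvd.mul_right (pow_dvd_pow _ hmn) _)
  · rintro ⟨⟨p, hp⟩, ⟨q, hq⟩⟩
    rw [← b.sum_repr x, Fin.sum_univ_three, hb, hp, hq, mul_comm _ p, mul_smul, mul_smul]
    exact Submodule.add_mem_sup (Submodule.mem_span_pair.2 ⟨_, _, rfl⟩)
      (Submodule.smul_mem_smul (Ideal.mem_span_singleton_self _) trivial)

theorem constantCoeff_eq_of_pow_dvd {m : ℕ} (hm : 0 < m) {a c : k⟦X⟧}
    (h : (X : k⟦X⟧) ^ m ∣ a - c) : constantCoeff a = constantCoeff c := by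
  have := X_dvd_iff.1 ((dvd_pow_self (X : k⟦X⟧) hm.ne').trans h)
  rwa [map_sub, sub_eq_zero] at this

theorem constantCoeff_map_eq_zero (φ : (Fin 3 → k⟦X⟧) →ₗ[k⟦X⟧] k⟦X⟧) {y : Fin 3 → k⟦X⟧}
    (hy : red y = 0) : constantCoeff (φ y) = 0 := by
  choose q hq using fun i => X_dvd_iff.2 (congrFun hy i)
  rw [show y = (X : k⟦X⟧) • q from funext fun i => by simp [hq i], map_smul, smul_eq_mul, map_mul,
    constantCoeff_X, zero_mul]

/-- The shape of a submodule cut out by two congruences. -/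
theorem structure_of_congr (m n : ℕ) (hmn : m ≤ n) (S : Submodule k⟦X⟧ (Fin 3 → k⟦X⟧))
    (α β : (Fin 3 → k⟦X⟧) →ₗ[k⟦X⟧] k⟦X⟧)
    (hS : ∀ x, x ∈ S ↔ (X : k⟦X⟧) ^ m ∣ α x ∧ (X : k⟦X⟧) ^ n ∣ β x)
    (h1 : (1 : Fin 3 → k⟦X⟧) ∈ S) {f₀ g₀ : Fin 3 → k⟦X⟧}
    (hf₀ : (X : k⟦X⟧) ^ m ∣ α f₀ - 1 ∧ (X : k⟦X⟧) ^ n ∣ β f₀)
    (hg₀ : (X : k⟦X⟧) ^ m ∣ α g₀ ∧ (X : k⟦X⟧) ^ n ∣ β g₀ - 1) :
    ∃ f : Fin 3 → k⟦X⟧,
      f ∉ Submodule.span k⟦X⟧ {(1 : Fin 3 → k⟦X⟧)} ⊔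
          Ideal.span {(X : k⟦X⟧)} • (⊤ : Submodule k⟦X⟧ (Fin 3 → k⟦X⟧)) ∧
      S = Submodule.span k⟦X⟧ {(1 : Fin 3 → k⟦X⟧), ((X : k⟦X⟧) ^ m) • f} ⊔
        Ideal.span {(X : k⟦X⟧) ^ n} • (⊤ : Submodule k⟦X⟧ (Fin 3 → k⟦X⟧)) := by
  obtain ⟨hα1, hβ1⟩ := (hS 1).1 h1
  have red1 : red (1 : Fin 3 → k⟦X⟧) = 1 := funext fun i => map_one constantCoeff
  have red_comb : ∀ (a b c : k) (u v w : Fin 3 → k⟦X⟧),
      red (C a • u + C b • v + C c • w) = a • red u + b • red v + c • red w := fun a b c u v w =>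
    funext fun i => by simp [red]
  obtain ⟨g, hg, hpair⟩ : ∃ g, ((X : k⟦X⟧) ^ m ∣ α g ∧ (X : k⟦X⟧) ^ n ∣ β g - 1) ∧
      ∀ a b : k, a • red (1 : Fin 3 → k⟦X⟧) + b • red g = 0 → a = 0 ∧ b = 0 := by
    rcases Nat.eq_zero_or_pos n with rfl | hn
    · obtain rfl : m = 0 := by omega
      refine ⟨Pi.single 0 1, ⟨by simp, by simp⟩, fun a b h => ?_⟩
      have e0 := congrFun h 0
      have e1 := congrFun h 1
      simp [red] at e0 e1
      exact ⟨e1, by simpa [e1] using e0⟩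
    · refine ⟨g₀, hg₀, fun a b h => ?_⟩
      have hcc := constantCoeff_map_eq_zero β (y := C a • 1 + C b • g₀ + C (0 : k) • g₀) (by
        rw [red_comb, zero_smul, add_zero, h])
      have c1 : constantCoeff (β 1) = 0 := by
        rw [constantCoeff_eq_of_pow_dvd hn (c := 0) (by simpa using hβ1), map_zero]
      have c2 : constantCoeff (β g₀) = 1 := by
        rw [constantCoeff_eq_of_pow_dvd hn hg₀.2, map_one]
      simp [c1, c2] at hcc
      have := congrFun h 0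
      simp [red, hcc] at this
      exact ⟨this, hcc⟩
  obtain ⟨f, hf, hind⟩ : ∃ f, ((X : k⟦X⟧) ^ m ∣ α f - 1 ∧ (X : k⟦X⟧) ^ n ∣ β f) ∧
      ∀ a b c : k, a • red (1 : Fin 3 → k⟦X⟧) + b • red f + c • red g = 0 → a = 0 ∧ b = 0 ∧ c = 0 := by
    rcases Nat.eq_zero_or_pos m with rfl | hm
    · obtain ⟨i, j, hij⟩ : ∃ i j, red g i ≠ red g j := by
        by_contra hall
        push Not at hall
        exact one_ne_zero (hpair (-(red g 0)) 1 (funext fun i => by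
          simp [red1, hall i 0])).2
      obtain ⟨l, hli, hlj⟩ : ∃ l : Fin 3, l ≠ i ∧ l ≠ j := by clear hij; revert i j; decide
      let e : Fin 3 → k⟦X⟧ := Pi.single l 1
      refine ⟨e - β e • g, ⟨by simp, ?_⟩, fun a b c h => ?_⟩
      · have : (X : k⟦X⟧) ^ n ∣ β e * (β g - 1) := Dvd.dvd.mul_left hg.2 _
        rw [map_sub, map_smul, smul_eq_mul]
        rw [← dvd_neg] at this
        convert this using 1
        ring
      · have ei := congrFun h i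
        have ej := congrFun h j
        have el := congrFun h l
        simp [red, e, hli.symm, hlj.symm] at ei ej el
        have hd : (c - b * constantCoeff (β e)) * (red g i - red g j) = 0 := by
          dsimp only [red, e]; linear_combination ei - ej
        have hc : c - b * constantCoeff (β e) = 0 :=
          (mul_eq_zero.1 hd).resolve_right (sub_ne_zero.2 hij)
        simp [e] at hc
        have ha : a = 0 := by linear_combination ei - constantCoeff (g i) * hc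
        have hb : b = 0 := by linear_combination el - ha - constantCoeff (g l) * hc
        subst hb
        exact ⟨ha, rfl, by simpa using hc⟩
    · refine ⟨f₀, hf₀, fun a b c h => ?_⟩
      have hcc := constantCoeff_map_eq_zero α (y := C a • 1 + C b • f₀ + C c • g) (by
        rw [red_comb, h])
      have c1 : constantCoeff (α 1) = 0 := by
        rw [constantCoeff_eq_of_pow_dvd hm (c := 0) (by simpa using hα1), map_zero]
      have c2 : constantCoeff (α f₀) = 1 := by rw [constantCoeff_eq_of_pow_dvd hm hf₀.1, map_one]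
      have c3 : constantCoeff (α g) = 0 := by
        rw [constantCoeff_eq_of_pow_dvd hm (c := 0) (by simpa using hg.1), map_zero]
      simp [c1, c2, c3] at hcc
      obtain ⟨ha, hc⟩ := hpair a c (by simpa [hcc] using h)
      exact ⟨ha, hcc, hc⟩
  obtain ⟨b, hb⟩ := exists_basis ![1, f, g] (fun w hw => by
    rw [Fin.sum_univ_three] at hw
    obtain ⟨p, q, r⟩ := hind _ _ _ hw
    funext i
    fin_cases i <;> assumption)
  have b0 : b 0 = 1 := congrFun hb 0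
  have b1 : b 1 = f := congrFun hb 1
  have b2 : b 2 = g := congrFun hb 2
  refine ⟨f, fun h => ?_, ?_⟩
  · have hconst := mem_span_one_sup_iff.1 h
    exact one_ne_zero (hind (-(red f 0)) 1 0 (funext fun i => by simp [red1, hconst i 0])).2.1
  · ext x
    rw [hS, ← b1, mem_shape3_iff b b0 hmn]
    have key : ∀ (φ : (Fin 3 → k⟦X⟧) →ₗ[k⟦X⟧] k⟦X⟧) (N : ℕ) (u v : k⟦X⟧),
        (X : k⟦X⟧) ^ N ∣ φ 1 → (X : k⟦X⟧) ^ N ∣ φ f - u → (X : k⟦X⟧) ^ N ∣ φ g - v →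
        ((X : k⟦X⟧) ^ N ∣ φ x ↔ (X : k⟦X⟧) ^ N ∣ b.repr x 1 * u + b.repr x 2 * v) := by
      intro φ N u v h₁ h₂ h₃
      refine dvd_iff_dvd_of_dvd_sub ?_
      have hx : φ x = b.repr x 0 * φ 1 + b.repr x 1 * φ f + b.repr x 2 * φ g := by
        conv_lhs => rw [← b.sum_repr x, Fin.sum_univ_three, b0, b1, b2]
        simp
      have := dvd_add (dvd_add (h₁.mul_left (b.repr x 0)) (h₂.mul_left (b.repr x 1)))
        (h₃.mul_left (b.repr x 2))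
      convert this using 1
      rw [hx]
      ring
    rw [key α m 1 0 hα1 hf.1 (by simpa using hg.1), key β n 0 1 hβ1 (by simpa using hf.2) hg.2]
    simp

theorem structure_of_quotient (m n : ℕ) (hmn : m ≤ n)
    (S : Submodule k⟦X⟧ (Fin 3 → k⟦X⟧)) (h1 : (1 : Fin 3 → k⟦X⟧) ∈ S)
    (e : ((Fin 3 → k⟦X⟧) ⧸ S) ≃ₗ[k⟦X⟧]
      ((k⟦X⟧ ⧸ Ideal.span {(X : k⟦X⟧) ^ m}) × (k⟦X⟧ ⧸ Ideal.span {(X : k⟦X⟧) ^ n}))) :
    Ideal.span {(X : k⟦X⟧) ^ n} • (⊤ : Submodule k⟦X⟧ (Fin 3 → k⟦X⟧)) ≤ S ∧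
    ∃ f : Fin 3 → k⟦X⟧,
      f ∉ Submodule.span k⟦X⟧ {(1 : Fin 3 → k⟦X⟧)} ⊔
          Ideal.span {(X : k⟦X⟧)} • (⊤ : Submodule k⟦X⟧ (Fin 3 → k⟦X⟧)) ∧
      S = Submodule.span k⟦X⟧ {(1 : Fin 3 → k⟦X⟧), ((X : k⟦X⟧) ^ m) • f} ⊔
        Ideal.span {(X : k⟦X⟧) ^ n} • (⊤ : Submodule k⟦X⟧ (Fin 3 → k⟦X⟧)) := by
  obtain ⟨α, hα⟩ := Module.projective_lifting_property (Ideal.span {(X : k⟦X⟧) ^ m}).mkQ
    ((LinearMap.fst k⟦X⟧ _ _) ∘ₗ e.toLinearMap ∘ₗ S.mkQ) (Submodule.mkQ_surjective _)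
  obtain ⟨β, hβ⟩ := Module.projective_lifting_property (Ideal.span {(X : k⟦X⟧) ^ n}).mkQ
    ((LinearMap.snd k⟦X⟧ _ _) ∘ₗ e.toLinearMap ∘ₗ S.mkQ) (Submodule.mkQ_surjective _)
  have hπ : ∀ x, e (Submodule.Quotient.mk x) =
      (Submodule.Quotient.mk (α x), Submodule.Quotient.mk (β x)) := fun x =>
    Prod.ext (LinearMap.congr_fun hα x).symm (LinearMap.congr_fun hβ x).symm
  have hmem : ∀ x, x ∈ S ↔ (X : k⟦X⟧) ^ m ∣ α x ∧ (X : k⟦X⟧) ^ n ∣ β x := fun x => by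
    rw [← Submodule.Quotient.mk_eq_zero, ← e.map_eq_zero_iff, hπ, Prod.mk_eq_zero,
      Submodule.Quotient.mk_eq_zero, Submodule.Quotient.mk_eq_zero, Ideal.mem_span_singleton,
      Ideal.mem_span_singleton]
  have hlift : ∀ p q : k⟦X⟧, ∃ y, (X : k⟦X⟧) ^ m ∣ α y - p ∧ (X : k⟦X⟧) ^ n ∣ β y - q := by
    intro p q
    obtain ⟨y, hy⟩ := Submodule.mkQ_surjective S (e.symm (Submodule.Quotient.mk p, Submodule.Quotient.mk q))
    have := congrArg e hy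
    rw [e.apply_symm_apply, Submodule.mkQ_apply, hπ, Prod.mk.injEq, Submodule.Quotient.eq,
      Submodule.Quotient.eq, Ideal.mem_span_singleton, Ideal.mem_span_singleton] at this
    exact ⟨y, this⟩
  refine ⟨?_, ?_⟩
  · rw [Submodule.ideal_span_singleton_smul]
    rintro _ hx
    obtain ⟨w, -, rfl⟩ := (Submodule.mem_smul_pointwise_iff_exists _ _ _).1 hx
    rw [hmem, map_smul, map_smul, smul_eq_mul, smul_eq_mul]
    exact ⟨(pow_dvd_pow _ hmn).mul_right _, dvd_mul_right _ _⟩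
  · obtain ⟨f₀, hf₀⟩ := hlift 1 0
    obtain ⟨g₀, hg₀⟩ := hlift 0 1
    exact structure_of_congr m n hmn S α β hmem h1 (f₀ := f₀) (g₀ := g₀)
      (by simpa using hf₀) (by simpa using hg₀)

theorem mul_closed_iff (m n : ℕ) (f : Fin 3 → k⟦X⟧) (S : Submodule k⟦X⟧ (Fin 3 → k⟦X⟧))
    (hS : S = Submodule.span k⟦X⟧ {(1 : Fin 3 → k⟦X⟧), ((X : k⟦X⟧) ^ m) • f} ⊔
        Ideal.span {(X : k⟦X⟧) ^ n} • (⊤ : Submodule k⟦X⟧ (Fin 3 → k⟦X⟧))) :
    (∀ x ∈ S, ∀ y ∈ S, x * y ∈ S) ↔ ((X : k⟦X⟧) ^ (2 * m)) • (f * f) ∈ S := by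
  set u := ((X : k⟦X⟧) ^ m) • f with hu
  have huu : u * u = ((X : k⟦X⟧) ^ (2 * m)) • (f * f) := by
    rw [hu, smul_mul_smul_comm, ← pow_add, two_mul]
  have hone : (1 : Fin 3 → k⟦X⟧) ∈ S := hS ▸ Submodule.mem_sup_left (Submodule.subset_span (by simp))
  have humem : u ∈ S := hS ▸ Submodule.mem_sup_left (Submodule.subset_span (by simp))
  refine ⟨fun h => huu ▸ h u humem u humem, fun h x hx y hy => ?_⟩
  have hN : ∀ w, ((X : k⟦X⟧) ^ n) • w ∈ S := fun w =>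
    hS ▸ Submodule.mem_sup_right (Submodule.smul_mem_smul (Ideal.mem_span_singleton_self _) trivial)
  rw [hS] at hx hy
  obtain ⟨x1, hx1, x2, hx2, rfl⟩ := Submodule.mem_sup.1 hx
  obtain ⟨y1, hy1, y2, hy2, rfl⟩ := Submodule.mem_sup.1 hy
  obtain ⟨p, q, rfl⟩ := Submodule.mem_span_pair.1 hx1
  obtain ⟨p', q', rfl⟩ := Submodule.mem_span_pair.1 hy1
  rw [Submodule.ideal_span_singleton_smul] at hx2 hy2
  obtain ⟨a, -, rfl⟩ := (Submodule.mem_smul_pointwise_iff_exists _ _ _).1 hx2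
  obtain ⟨c, -, rfl⟩ := (Submodule.mem_smul_pointwise_iff_exists _ _ _).1 hy2
  rw [show (p • (1 : Fin 3 → k⟦X⟧) + q • u + (X : k⟦X⟧) ^ n • a) *
      (p' • (1 : Fin 3 → k⟦X⟧) + q' • u + (X : k⟦X⟧) ^ n • c) =
      (p * p') • (1 : Fin 3 → k⟦X⟧) + (p * q' + q * p') • u + (q * q') • (u * u) +
        (X : k⟦X⟧) ^ n • (a * (p' • (1 : Fin 3 → k⟦X⟧) + q' • u + (X : k⟦X⟧) ^ n • c) +
          (p • (1 : Fin 3 → k⟦X⟧) + q • u) * c) by
    funext i
    simp only [Pi.mul_apply, Pi.add_apply, Pi.smul_apply, Pi.one_apply, smul_eq_mul]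
    ring]
  refine S.add_mem (S.add_mem (S.add_mem (S.smul_mem _ hone) (S.smul_mem _ humem)) ?_) (hN _)
  exact S.smul_mem _ (huu ▸ h)

theorem crimp_of_le_two_mul (m n : ℕ) (hmn : m ≤ n) (hn : n ≤ 2 * m) (f : Fin 3 → k⟦X⟧)
    (hf : f ∉ Submodule.span k⟦X⟧ {(1 : Fin 3 → k⟦X⟧)} ⊔
        Ideal.span {(X : k⟦X⟧)} • (⊤ : Submodule k⟦X⟧ (Fin 3 → k⟦X⟧)))
    (S : Submodule k⟦X⟧ (Fin 3 → k⟦X⟧))
    (hS : S = Submodule.span k⟦X⟧ {(1 : Fin 3 → k⟦X⟧), ((X : k⟦X⟧) ^ m) • f} ⊔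
        Ideal.span {(X : k⟦X⟧) ^ n} • (⊤ : Submodule k⟦X⟧ (Fin 3 → k⟦X⟧))) :
    (∀ x ∈ S, ∀ y ∈ S, x * y ∈ S) ∧
    Nonempty (((Fin 3 → k⟦X⟧) ⧸ S) ≃ₗ[k⟦X⟧]
      ((k⟦X⟧ ⧸ Ideal.span {(X : k⟦X⟧) ^ m}) × (k⟦X⟧ ⧸ Ideal.span {(X : k⟦X⟧) ^ n}))) := by
  refine ⟨(mul_closed_iff m n f S hS).2 ?_, ?_⟩
  · obtain ⟨e, he⟩ := pow_dvd_pow (X : k⟦X⟧) hn
    rw [hS, he, mul_smul]
    exact Submodule.mem_sup_right (Submodule.smul_mem_smul (Ideal.mem_span_singleton_self _) trivial)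
  rw [mem_span_one_sup_iff] at hf
  push Not at hf
  obtain ⟨i, j, hij⟩ := hf
  obtain ⟨l, hli, hlj⟩ : ∃ l : Fin 3, l ≠ i ∧ l ≠ j := by clear hij; revert i j; decide
  obtain ⟨b, hb⟩ := exists_basis ![1, f, fun x => C ((Pi.single l 1 : Fin 3 → k) x)] (fun w hw => by
    have hi := congrFun hw i
    have hj := congrFun hw j
    have hl := congrFun hw l
    rw [Fin.sum_univ_three] at hi hj hl
    simp [red, hli.symm, hlj.symm] at hi hj hl
    have h1 : w 1 = 0 := by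
      have : w 1 * (red f i - red f j) = 0 := by dsimp only [red]; linear_combination hi - hj
      exact (mul_eq_zero.1 this).resolve_right (sub_ne_zero.2 hij)
    simp [h1] at hi hl
    simp [hi] at hl
    funext x
    fin_cases x <;> assumption)
  have b0 : b 0 = 1 := congrFun hb 0
  have b1 : b 1 = f := congrFun hb 1
  let φ : (Fin 3 → k⟦X⟧) →ₗ[k⟦X⟧]
      ((k⟦X⟧ ⧸ Ideal.span {(X : k⟦X⟧) ^ m}) × (k⟦X⟧ ⧸ Ideal.span {(X : k⟦X⟧) ^ n})) :=
    ((Submodule.mkQ _).comp (b.coord 1)).prod ((Submodule.mkQ _).comp (b.coord 2))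
  have hker : LinearMap.ker φ = S := by
    ext x
    rw [hS, ← b1, mem_shape3_iff b b0 hmn, LinearMap.mem_ker]
    simp only [φ, LinearMap.prod_apply, Function.prod, LinearMap.comp_apply, Submodule.mkQ_apply, Basis.coord_apply]
    refine Iff.trans (Prod.mk_eq_zero (x := Submodule.Quotient.mk (b.repr x 1))) ?_
    rw [Submodule.Quotient.mk_eq_zero, Submodule.Quotient.mk_eq_zero, Ideal.mem_span_singleton,
      Ideal.mem_span_singleton]
  have hsurj : Function.Surjective φ := by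
    rintro ⟨y, z⟩
    obtain ⟨y, rfl⟩ := Submodule.mkQ_surjective _ y
    obtain ⟨z, rfl⟩ := Submodule.mkQ_surjective _ z
    exact ⟨y • b 1 + z • b 2, by simp [φ]⟩
  exact ⟨(Submodule.quotEquivOfEq _ _ hker.symm).trans (φ.quotKerEquivOfSurjective hsurj)⟩

end Groth.Agent.Crimp84
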